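import Cfsg.Prelude.Def_Classical
import Cfsg.Agent.Lib.Forms.Witt

set_option autoImplicit false

/-! Quadratic forms on `F₂^{2m}` with the polarization of `quadFormPlus`. -/

namespace CfsgLib.F2Quad

open Cfsg

/-- The space `F₂^{2m}`. -/
abbrev Vec (m : ℕ) : Type := Fin m ⊕ Fin m → ZMod 2

/-- The polar form of `quadFormPlus` over `F₂`. -/
def pol (m : ℕ) (u v : Vec m) : ZMod 2 :=
  ∑ i, (u (.inl i) * v (.inr i) + v (.inl i) * u (.inr i))

theorem pol_eq (m : ℕ) (u v : Vec m) :
    quadFormPlus m (ZMod 2) (u + v) - quadFormPlus m (ZMod 2) u - quadFormPlus m (ZMod 2) v = pol m u v := by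
  simp only [quadFormPlus, pol, Pi.add_apply, ← Finset.sum_sub_distrib]
  exact Finset.sum_congr rfl fun i _ => by ring

theorem qp_add (m : ℕ) (u v : Vec m) :
    quadFormPlus m (ZMod 2) (u + v) = quadFormPlus m (ZMod 2) u + quadFormPlus m (ZMod 2) v + pol m u v := by
  rw [← pol_eq]; ring

theorem pol_comm (m : ℕ) (u v : Vec m) : pol m u v = pol m v u :=
  Finset.sum_congr rfl fun i _ => by ring

theorem pol_add_left (m : ℕ) (u u' v : Vec m) : pol m (u + u') v = pol m u v + pol m u' v := by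
  simp only [pol, Pi.add_apply, ← Finset.sum_add_distrib]
  exact Finset.sum_congr rfl fun i _ => by ring

theorem pol_smul_left (m : ℕ) (c : ZMod 2) (u v : Vec m) : pol m (c • u) v = c * pol m u v := by
  simp only [pol, Pi.smul_apply, smul_eq_mul, Finset.mul_sum]
  exact Finset.sum_congr rfl fun i _ => by ring

theorem pol_self (m : ℕ) (w : Vec m) : pol m w w = 0 :=
  Finset.sum_eq_zero fun _ _ => CharTwo.add_self_eq_zero _

/-- The forms considered. -/
def IsQF (m : ℕ) (q : Vec m → ZMod 2) : Prop :=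
  ∀ u v : Vec m, q (u + v) = q u + q v +
    (quadFormPlus m (ZMod 2) (u + v) - quadFormPlus m (ZMod 2) u - quadFormPlus m (ZMod 2) v)

/-- The form `Q + B(·, w)`. -/
def qw (m : ℕ) (w : Vec m) (v : Vec m) : ZMod 2 := quadFormPlus m (ZMod 2) v + pol m v w

theorem isQF_qw (m : ℕ) (w : Vec m) : IsQF m (qw m w) := by
  intro u v
  rw [pol_eq, qw, qw, qw, qp_add, pol_add_left]; ring

theorem qw_inj (m : ℕ) {w w' : Vec m} (h : qw m w = qw m w') : w = w' := by
  funext j
  rcases j with i | i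
  · have := congrFun h (Pi.single (.inr i) 1)
    simp only [qw, add_right_inj] at this
    simpa [pol, Pi.single_apply] using this
  · have := congrFun h (Pi.single (.inl i) 1)
    simp only [qw, add_right_inj] at this
    simpa [pol, Pi.single_apply] using this

theorem exists_eq_qw (m : ℕ) {q : Vec m → ZMod 2} (hq : IsQF m q) : ∃ w, q = qw m w := by
  let l : Vec m →+ ZMod 2 := AddMonoidHom.mk' (fun v => q v - quadFormPlus m (ZMod 2) v) (fun u v => by
    rw [hq, pol_eq, qp_add]; ring)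
  let L := l.toZModLinearMap 2
  refine ⟨Sum.elim (fun i => L (Pi.single (.inr i) 1)) (fun i => L (Pi.single (.inl i) 1)), funext fun v => ?_⟩
  have hL : L v = ∑ j, v j * L (Pi.single j 1) := by
    conv_lhs => rw [pi_eq_sum_univ' v]
    simp [map_sum, map_smul]
  have hl : q v = quadFormPlus m (ZMod 2) v + L v := by
    show q v = quadFormPlus m (ZMod 2) v + (q v - quadFormPlus m (ZMod 2) v)
    ring
  rw [hl, qw, hL, pol, Fintype.sum_sum_type, ← Finset.sum_add_distrib]
  congr 1
  exact Finset.sum_congr rfl fun i _ => by simp [mul_comm]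

/-- Forms correspond to vectors. -/
noncomputable def formEquiv (m : ℕ) : Vec m ≃ {q : Vec m → ZMod 2 // IsQF m q} :=
  Equiv.ofBijective (fun w => ⟨qw m w, isQF_qw m w⟩)
    ⟨fun _ _ h => qw_inj m (congrArg Subtype.val h),
      fun q => (exists_eq_qw m q.2).imp fun _ hw => Subtype.ext hw.symm⟩

theorem qw_apply_shift (m : ℕ) (w v : Vec m) :
    qw m w v = quadFormPlus m (ZMod 2) (v + w) + quadFormPlus m (ZMod 2) w := by
  rw [qp_add, qw]
  have : quadFormPlus m (ZMod 2) w + quadFormPlus m (ZMod 2) w = 0 := CharTwo.add_self_eq_zero _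
  linear_combination -this

/-- A form as a `QuadraticForm`. -/
noncomputable def plusForm (m : ℕ) : QuadraticForm (ZMod 2) (Vec m) :=
  LinearMap.BilinMap.toQuadraticMap
    (LinearMap.mk₂ (ZMod 2) (fun u v : Vec m => ∑ i, u (.inl i) * v (.inr i))
      (fun a b c => by simp [add_mul, Finset.sum_add_distrib]) (fun c a b => by simp [Finset.mul_sum, mul_assoc])
      (fun a b c => by simp [mul_add, Finset.sum_add_distrib]) (fun c a b => by simp [Finset.mul_sum, mul_left_comm]))

theorem plusForm_apply (m : ℕ) (v : Vec m) : plusForm m v = quadFormPlus m (ZMod 2) v := rfl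

theorem plusForm_nondegenerate (m : ℕ) : (QuadraticMap.polarBilin (plusForm m)).Nondegenerate := by
  have hp : ∀ u v, QuadraticMap.polarBilin (plusForm m) u v = pol m u v := fun u v => by
    rw [QuadraticMap.polarBilin_apply_apply, QuadraticMap.polar, plusForm_apply, plusForm_apply, plusForm_apply, pol_eq]
  constructor <;> intro u hu <;> funext j <;> rcases j with i | i
  · have := hu (Pi.single (.inr i) 1); rw [hp] at this; simpa [pol, Pi.single_apply] using this
  · have := hu (Pi.single (.inl i) 1); rw [hp] at this; simpa [pol, Pi.single_apply] using this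
  · have := hu (Pi.single (.inr i) 1); rw [hp] at this; simpa [pol, Pi.single_apply] using this
  · have := hu (Pi.single (.inl i) 1); rw [hp] at this; simpa [pol, Pi.single_apply] using this

/-- Isometries are transitive on vectors of form value one. -/
theorem exists_isometry (m : ℕ) {w w' : Vec m} (hw : quadFormPlus m (ZMod 2) w = 1)
    (hw' : quadFormPlus m (ZMod 2) w' = 1) :
    ∃ g : Vec m ≃ₗ[ZMod 2] Vec m, (∀ x, quadFormPlus m (ZMod 2) (g x) = quadFormPlus m (ZMod 2) x) ∧ g w = w' := by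
  obtain ⟨k, hk⟩ : ∃ k, w k = 1 := by
    by_contra h
    push Not at h
    have h0 : w = 0 := funext fun k => by
      have : ∀ z : ZMod 2, z ≠ 1 → z = 0 := by decide
      exact this _ (h k)
    rw [h0] at hw
    simp [quadFormPlus] at hw
  let f : Vec m →ₗ[ZMod 2] Vec m := (LinearMap.proj k).smulRight w'
  have hval : ∀ c : ZMod 2, f (c • w) = c • w' := fun c => by simp [f, hk]
  obtain ⟨g, hg, hgw⟩ := CfsgLib.Forms.witt_quadratic (plusForm m) (plusForm_nondegenerate m) (Submodule.span (ZMod 2) {w}) f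
    (fun x hx => by
      obtain ⟨c, rfl⟩ := Submodule.mem_span_singleton.mp hx
      rw [hval, QuadraticMap.map_smul, QuadraticMap.map_smul, plusForm_apply, plusForm_apply, hw, hw'])
    (fun x hx h0 => by
      obtain ⟨c, rfl⟩ := Submodule.mem_span_singleton.mp hx
      rw [hval] at h0
      rcases smul_eq_zero.mp h0 with h | h
      · rw [h, zero_smul]
      · rw [h] at hw'; simp [quadFormPlus] at hw')
  refine ⟨g, fun x => hg x, ?_⟩
  rw [hgw w (Submodule.mem_span_singleton_self w)]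
  simp [f, hk]

theorem zmod_two_cases (z : ZMod 2) : z = 0 ∨ z = 1 := by revert z; decide

/-- `±1` valued character of `ZMod 2`. -/
def sgn (z : ZMod 2) : ℤ := if z = 0 then 1 else -1

theorem sgn_sum {α : Type*} (s : Finset α) (f : α → ZMod 2) : sgn (∑ i ∈ s, f i) = ∏ i ∈ s, sgn (f i) := by
  have h : ∀ x y, sgn (x + y) = sgn x * sgn y := by decide
  classical
  induction s using Finset.induction_on with
  | empty => simp [sgn]
  | insert a s ha ih => rw [Finset.sum_insert ha, Finset.prod_insert ha, h, ih]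

theorem sum_sgn (m : ℕ) : ∑ v : Vec m, sgn (quadFormPlus m (ZMod 2) v) = 2 ^ m := by
  let e : (Fin m → ZMod 2 × ZMod 2) ≃ Vec m :=
    (Equiv.arrowProdEquivProdArrow (Fin m) (fun _ => ZMod 2) (fun _ => ZMod 2)).trans (Equiv.sumArrowEquivProdArrow _ _ _).symm
  rw [← e.sum_comp]
  have h2 : ∑ x : ZMod 2 × ZMod 2, sgn (x.1 * x.2) = 2 := by decide
  have : ∀ x : Fin m → ZMod 2 × ZMod 2, sgn (quadFormPlus m (ZMod 2) (e x)) = ∏ i, sgn ((x i).1 * (x i).2) := fun x =>
    sgn_sum Finset.univ fun i => (x i).1 * (x i).2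
  rw [Finset.sum_congr rfl fun x _ => this x,
    ← Fintype.prod_sum (fun (_ : Fin m) (z : ZMod 2 × ZMod 2) => sgn (z.1 * z.2)), Finset.prod_const, h2]
  simp

/-- The number of zeros. -/
theorem card_zeros (m : ℕ) (hm : 1 ≤ m) :
    Nat.card {v : Vec m // quadFormPlus m (ZMod 2) v = 0} = 2 ^ (2 * m - 1) + 2 ^ (m - 1) := by
  classical
  have hs := sum_sgn m
  have hsplit : ∑ v : Vec m, sgn (quadFormPlus m (ZMod 2) v) =
      2 * ((Finset.univ.filter fun v : Vec m => quadFormPlus m (ZMod 2) v = 0).card : ℤ) - (Fintype.card (Vec m) : ℤ) := by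
    simp only [sgn]
    rw [Finset.sum_ite, Finset.sum_const, Finset.sum_const]
    have hc := Finset.card_filter_add_card_filter_not (s := (Finset.univ : Finset (Vec m))) (fun v => quadFormPlus m (ZMod 2) v = 0)
    rw [Finset.card_univ] at hc
    rw [← hc]
    simp
    ring
  rw [hsplit, Fintype.card_fun, ZMod.card, Fintype.card_sum, Fintype.card_fin] at hs
  rw [Nat.card_eq_fintype_card, Fintype.card_subtype]
  obtain ⟨k, rfl⟩ : ∃ k, m = k + 1 := ⟨m - 1, by omega⟩
  have e1 : (2 : ℕ) ^ (k + 1 + (k + 1)) = 2 * 2 ^ (2 * (k + 1) - 1) := by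
    rw [← pow_succ']; congr 1; omega
  rw [e1] at hs
  have e2 : k + 1 - 1 = k := by omega
  rw [e2]
  have hN : ((Finset.univ.filter fun v : Vec (k + 1) => quadFormPlus (k + 1) (ZMod 2) v = 0).card : ℤ) = ((2 ^ (2 * (k + 1) - 1) + 2 ^ k : ℕ) : ℤ) := by
    push_cast at hs ⊢
    rw [pow_succ] at hs
    linarith
  exact_mod_cast hN

theorem card_ones (m : ℕ) (hm : 1 ≤ m) :
    Nat.card {v : Vec m // quadFormPlus m (ZMod 2) v = 1} = 2 ^ (2 * m - 1) - 2 ^ (m - 1) := by
  classical
  have h0 := card_zeros m hm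
  rw [Nat.card_eq_fintype_card, Fintype.card_subtype] at h0 ⊢
  have hc := Finset.card_filter_add_card_filter_not (s := (Finset.univ : Finset (Vec m))) (fun v => quadFormPlus m (ZMod 2) v = 0)
  rw [Finset.card_univ, h0, Fintype.card_fun, ZMod.card, Fintype.card_sum, Fintype.card_fin] at hc
  have h1 : (Finset.univ.filter fun v : Vec m => quadFormPlus m (ZMod 2) v = 1) = Finset.univ.filter fun v : Vec m => ¬ quadFormPlus m (ZMod 2) v = 0 :=
    Finset.filter_congr fun v _ => by
      rcases zmod_two_cases (quadFormPlus m (ZMod 2) v) with h | h <;> rw [h] <;> decide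
  rw [h1]
  have e1 : (2 : ℕ) ^ (m + m) = 2 * 2 ^ (2 * m - 1) := by rw [← pow_succ']; congr 1; omega
  omega

/-- Equivalence with the plus form. -/
def IsPlus (m : ℕ) (q : Vec m → ZMod 2) : Prop :=
  ∃ g : Vec m ≃ₗ[ZMod 2] Vec m, ∀ v, q v = quadFormPlus m (ZMod 2) (g v)

/-- Equivalence with the minus form. -/
def IsMinus (m : ℕ) (q : Vec m → ZMod 2) : Prop :=
  ∃ g : Vec m ≃ₗ[ZMod 2] ((Fin (m - 1) ⊕ Fin (m - 1)) ⊕ Fin 2 → ZMod 2),
    ∀ v, q v = quadFormMinus (m - 1) (ZMod 2) 1 1 (g v)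

theorem zmod_two_sq (x : ZMod 2) : x ^ 2 = x := by revert x; decide

/-- The transvection `v ↦ v + B(v, w) w`. -/
def transv (m : ℕ) (w : Vec m) : Vec m ≃ₗ[ZMod 2] Vec m :=
  LinearEquiv.ofInvolutive
    { toFun := fun v => v + pol m v w • w
      map_add' := fun a b => by rw [pol_add_left, add_smul]; abel
      map_smul' := fun c a => by rw [pol_smul_left, RingHom.id_apply, smul_add, smul_smul] }
    (fun v => by
      show v + pol m v w • w + pol m (v + pol m v w • w) w • w = v
      rw [pol_add_left, pol_smul_left, pol_self, mul_zero, add_zero, add_assoc, ← add_smul, CharTwo.add_self_eq_zero, zero_smul, add_zero])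

theorem transv_apply (m : ℕ) (w v : Vec m) : transv m w v = v + pol m v w • w := rfl

theorem qw_isPlus (m : ℕ) {w : Vec m} (hw : quadFormPlus m (ZMod 2) w = 0) : IsPlus m (qw m w) := by
  refine ⟨transv m w, fun v => ?_⟩
  rw [transv_apply, qp_add, qw]
  have h1 : quadFormPlus m (ZMod 2) (pol m v w • w) = 0 := by
    rcases zmod_two_cases (pol m v w) with h | h <;> rw [h]
    · simp [quadFormPlus]
    · rw [one_smul, hw]
  rw [h1, pol_comm m v (pol m v w • w), pol_smul_left, pol_comm m w v, ← sq, zmod_two_sq, add_zero]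

/-- Re-indexing `Fin (k+1)` as `Fin k` and the last point. -/
def splitLast (k : ℕ) : Vec (k + 1) ≃ₗ[ZMod 2] ((Fin k ⊕ Fin k) ⊕ Fin 2 → ZMod 2) where
  toFun v := Sum.elim (Sum.elim (fun i => v (.inl i.castSucc)) (fun i => v (.inr i.castSucc))) ![v (.inl (Fin.last k)), v (.inr (Fin.last k))]
  invFun u := Sum.elim (Fin.snoc (fun i => u (.inl (.inl i))) (u (.inr 0))) (Fin.snoc (fun i => u (.inl (.inr i))) (u (.inr 1)))
  map_add' a b := by funext j; rcases j with (i | i) | i <;> first | rfl | (fin_cases i <;> rfl)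
  map_smul' c a := by funext j; rcases j with (i | i) | i <;> first | rfl | (fin_cases i <;> rfl)
  left_inv v := by
    funext j; rcases j with i | i <;> refine Fin.lastCases ?_ (fun j => ?_) i <;> simp
  right_inv u := by
    funext j; rcases j with (i | i) | i
    · simp
    · simp
    · fin_cases i <;> simp

theorem qw_isMinus (m : ℕ) (hm : 1 ≤ m) {w : Vec m} (hw : quadFormPlus m (ZMod 2) w = 1) : IsMinus m (qw m w) := by
  obtain ⟨k, rfl⟩ : ∃ k, m = k + 1 := ⟨m - 1, by omega⟩
  let w₀ : Vec (k + 1) := Sum.elim (Fin.snoc (fun _ => 0) 1) (Fin.snoc (fun _ => 0) 1)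
  have hw₀ : quadFormPlus (k + 1) (ZMod 2) w₀ = 1 := by simp [quadFormPlus, w₀, Fin.sum_univ_castSucc]
  obtain ⟨h, hh, hhw⟩ := exists_isometry (k + 1) hw hw₀
  refine ⟨h.trans (splitLast k), fun v => ?_⟩
  have h1 : qw (k + 1) w v = qw (k + 1) w₀ (h v) := by
    rw [qw_apply_shift, qw_apply_shift, ← hhw, ← map_add, hh, hh]
  rw [h1]
  show _ = quadFormMinus k (ZMod 2) 1 1 (splitLast k (h v))
  generalize h v = x
  have hsq := zmod_two_sq
  simp [qw, quadFormPlus, quadFormMinus, pol, w₀, splitLast, Fin.sum_univ_castSucc, hsq]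
  ring

theorem card_zeros_qw (m : ℕ) (w : Vec m) :
    Nat.card {v // qw m w v = 0} = Nat.card {v : Vec m // quadFormPlus m (ZMod 2) v = quadFormPlus m (ZMod 2) w} :=
  Nat.card_congr (Equiv.subtypeEquiv (Equiv.addRight w) fun v => by
    rw [Equiv.coe_addRight, qw_apply_shift, CharTwo.add_eq_zero])

theorem not_isPlus (m : ℕ) (hm : 1 ≤ m) {w : Vec m} (hw : quadFormPlus m (ZMod 2) w = 1) : ¬ IsPlus m (qw m w) := by
  rintro ⟨g, hg⟩
  have h := card_zeros_qw m w
  rw [hw, card_ones m hm, Nat.card_congr (Equiv.subtypeEquiv g.toEquiv (q := fun v => quadFormPlus m (ZMod 2) v = 0) fun v => by rw [hg]; rfl), card_zeros m hm] at h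
  have h1 : 0 < (2 : ℕ) ^ (m - 1) := Nat.two_pow_pos _
  have h2 : 0 < (2 : ℕ) ^ (2 * m - 1) := Nat.two_pow_pos _
  omega

theorem isPlus_iff (m : ℕ) (hm : 1 ≤ m) (w : Vec m) : IsPlus m (qw m w) ↔ quadFormPlus m (ZMod 2) w = 0 := by
  refine ⟨fun h => ?_, qw_isPlus m⟩
  rcases zmod_two_cases (quadFormPlus m (ZMod 2) w) with h0 | h1
  · exact h0
  · exact absurd h (not_isPlus m hm h1)

theorem isMinus_iff (m : ℕ) (hm : 1 ≤ m) (w : Vec m) : IsMinus m (qw m w) ↔ quadFormPlus m (ZMod 2) w = 1 := by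
  refine ⟨fun h => ?_, qw_isMinus m hm⟩
  rcases zmod_two_cases (quadFormPlus m (ZMod 2) w) with h0 | h1
  · exfalso
    let w₁ : Vec m := Sum.elim (fun i => if i = ⟨0, hm⟩ then 1 else 0) (fun i => if i = ⟨0, hm⟩ then 1 else 0)
    have hw₁ : quadFormPlus m (ZMod 2) w₁ = 1 := by simp [quadFormPlus, w₁]
    obtain ⟨a, ha⟩ := qw_isPlus m h0
    obtain ⟨b, hb⟩ := qw_isMinus m hm hw₁
    obtain ⟨c, hc⟩ := h
    refine not_isPlus m hm hw₁ ⟨(b.trans c.symm).trans a, fun v => ?_⟩
    show qw m w₁ v = quadFormPlus m (ZMod 2) (a (c.symm (b v)))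
    rw [← ha, hc, LinearEquiv.apply_symm_apply, ← hb]
  · exact h1

end CfsgLib.F2Quad
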