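import Cfsg.Agent.Lib.F2Quad.Basic

set_option autoImplicit false

/-! The symmetric group of degree `2m + 2` acting on even subsets modulo complementation, as a subgroup of an
orthogonal group of dimension `2m` over `F₂` (for `m` odd). -/

namespace CfsgLib.F2Quad

open Cfsg

variable {m : ℕ}

/-- Subsets of `2m + 2` points. -/
abbrev Sets (m : ℕ) : Type := Fin (2 * m + 2) → ZMod 2

/-- Pair `{2i, 2i+1}`. -/
def eSet (i : Fin m) : Sets m :=
  Pi.single ⟨2 * (i : ℕ), by omega⟩ 1 + Pi.single ⟨2 * (i : ℕ) + 1, by omega⟩ 1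

/-- Interval `[a, 2m]`. -/
def tailSet (m : ℕ) (a : ℕ) : Sets m := fun l => if a ≤ (l : ℕ) ∧ (l : ℕ) < 2 * m + 1 then 1 else 0

/-- `{2i+1, …, 2m}`. -/
def fSet (i : Fin m) : Sets m := tailSet m (2 * (i : ℕ) + 1)

theorem eSet_dot (i : Fin m) (s : Sets m) :
    eSet i ⬝ᵥ s = s ⟨2 * (i : ℕ), by omega⟩ + s ⟨2 * (i : ℕ) + 1, by omega⟩ := by
  simp [eSet, add_dotProduct]

theorem tailSet_step (a : ℕ) (ha : a + 1 < 2 * m + 1) :
    tailSet m a = Pi.single ⟨a, by omega⟩ 1 + Pi.single ⟨a + 1, by omega⟩ 1 + tailSet m (a + 2) := by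
  funext l
  simp only [tailSet, Pi.add_apply, Pi.single_apply, Fin.ext_iff]
  by_cases h1 : (l : ℕ) = a
  · rw [if_pos (by omega), if_pos h1, if_neg (by omega), if_neg (by omega)]; ring
  by_cases h2 : (l : ℕ) = a + 1
  · rw [if_pos (by omega), if_neg h1, if_pos h2, if_neg (by omega)]; ring
  rw [if_neg h1, if_neg h2, zero_add, zero_add]
  exact if_congr (by omega) rfl rfl

theorem tailSet_top : tailSet m (2 * m + 1) = 0 := funext fun l => if_neg (by omega)

theorem tailSet_dot_one (d : ℕ) : ∀ a : ℕ, a + 2 * d = 2 * m + 1 → tailSet m a ⬝ᵥ (1 : Sets m) = 0 := by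
  induction d with
  | zero => intro a ha; rw [show a = 2 * m + 1 by omega, tailSet_top, zero_dotProduct]
  | succ d ih =>
    intro a ha
    rw [tailSet_step a (by omega), add_dotProduct, add_dotProduct, single_dotProduct, single_dotProduct, ih (a + 2) (by omega)]
    simp only [Pi.one_apply, one_mul, add_zero]
    exact CharTwo.add_self_eq_zero _

theorem tailSet_mul (a b : ℕ) : (fun l => tailSet m a l * tailSet m b l) = tailSet m (max a b) := by
  funext l
  simp only [tailSet]
  split <;> split <;> first | (rw [if_pos (by omega)]; simp) | (rw [if_neg (by omega)]; simp)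

theorem fSet_dot_fSet (i j : Fin m) : fSet i ⬝ᵥ fSet j = 0 := by
  have : fSet i ⬝ᵥ fSet j = tailSet m (2 * (max (i : ℕ) j) + 1) ⬝ᵥ (1 : Sets m) := by
    simp only [dotProduct, Pi.one_apply, mul_one, fSet]
    have h := tailSet_mul (m := m) (2 * (i : ℕ) + 1) (2 * (j : ℕ) + 1)
    rw [show max (2 * (i : ℕ) + 1) (2 * (j : ℕ) + 1) = 2 * max (i : ℕ) j + 1 by omega] at h
    exact Finset.sum_congr rfl fun l _ => congrFun h l
  rw [this]
  have hmax : max (i : ℕ) j < m := by omega
  exact tailSet_dot_one (m - max (i : ℕ) j) _ (by omega)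

theorem eSet_dot_eSet (i j : Fin m) : eSet i ⬝ᵥ eSet j = 0 := by
  rw [eSet_dot]
  by_cases h : i = j
  · subst h; simp [eSet, Pi.single_apply, Fin.ext_iff]; decide
  · have : (i : ℕ) ≠ j := fun e => h (Fin.ext e)
    simp only [eSet, Pi.add_apply, Pi.single_apply, Fin.ext_iff]
    rw [if_neg (by omega), if_neg (by omega), if_neg (by omega), if_neg (by omega)]
    ring

theorem eSet_dot_fSet (i j : Fin m) : eSet i ⬝ᵥ fSet j = if i = j then 1 else 0 := by
  rw [eSet_dot]
  simp only [fSet, tailSet]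
  rcases lt_trichotomy (i : ℕ) j with h | h | h
  · rw [if_neg (by omega), if_neg (by omega), if_neg (fun e => by subst e; omega), zero_add]
  · rw [if_neg (by omega), if_pos (by omega), if_pos (Fin.ext h), zero_add]
  · rw [if_pos (by omega), if_pos (by omega), if_neg (fun e => by subst e; omega)]
    decide

/-- The embedding. -/
def toSets (m : ℕ) : Vec m →ₗ[ZMod 2] Sets m :=
  ∑ i, ((LinearMap.proj (Sum.inl i)).smulRight (eSet i) + (LinearMap.proj (Sum.inr i)).smulRight (fSet i))

theorem toSets_apply (v : Vec m) : toSets m v = ∑ i, (v (.inl i) • eSet i + v (.inr i) • fSet i) := by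
  simp [toSets, LinearMap.sum_apply]

/-- The retraction. -/
def ofSets (m : ℕ) : Sets m →ₗ[ZMod 2] Vec m where
  toFun s := Sum.elim (fun i => fSet i ⬝ᵥ s) (fun i => eSet i ⬝ᵥ s)
  map_add' a b := by funext j; cases j <;> simp [dotProduct_add]
  map_smul' c a := by funext j; cases j <;> simp [dotProduct_smul]

theorem ofSets_toSets (v : Vec m) : ofSets m (toSets m v) = v := by
  funext j
  rcases j with i | i
  · show fSet i ⬝ᵥ toSets m v = _
    rw [toSets_apply, dotProduct_sum, Finset.sum_eq_single i]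
    · rw [dotProduct_add, dotProduct_smul, dotProduct_smul, fSet_dot_fSet, dotProduct_comm, eSet_dot_fSet, if_pos rfl]; simp
    · intro k _ hk
      rw [dotProduct_add, dotProduct_smul, dotProduct_smul, fSet_dot_fSet, dotProduct_comm, eSet_dot_fSet, if_neg hk]; simp
    · simp
  · show eSet i ⬝ᵥ toSets m v = _
    rw [toSets_apply, dotProduct_sum, Finset.sum_eq_single i]
    · rw [dotProduct_add, dotProduct_smul, dotProduct_smul, eSet_dot_eSet, eSet_dot_fSet, if_pos rfl]; simp
    · intro k _ hk
      rw [dotProduct_add, dotProduct_smul, dotProduct_smul, eSet_dot_eSet, eSet_dot_fSet, if_neg (Ne.symm hk)]; simp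
    · simp

theorem toSets_dot (u : Vec m) (s : Sets m) : toSets m u ⬝ᵥ s = pol m u (ofSets m s) := by
  rw [toSets_apply, sum_dotProduct, pol]
  refine Finset.sum_congr rfl fun i _ => ?_
  rw [add_dotProduct, smul_dotProduct, smul_dotProduct]
  show _ = u (.inl i) * (eSet i ⬝ᵥ s) + (fSet i ⬝ᵥ s) * u (.inr i)
  simp [mul_comm]

theorem toSets_dot_toSets (u v : Vec m) : toSets m u ⬝ᵥ toSets m v = pol m u v := by
  rw [toSets_dot, ofSets_toSets]

theorem eSet_even (i : Fin m) : eSet i ⬝ᵥ (1 : Sets m) = 0 := by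
  rw [eSet_dot]
  exact CharTwo.add_self_eq_zero _

theorem fSet_even (i : Fin m) : fSet i ⬝ᵥ (1 : Sets m) = 0 :=
  tailSet_dot_one (m - (i : ℕ)) _ (by have := i.2; omega)

theorem ofSets_one : ofSets m (1 : Sets m) = 0 := by
  funext j
  rcases j with i | i
  · exact fSet_even i
  · exact eSet_even i

theorem toSets_even (v : Vec m) : toSets m v ⬝ᵥ (1 : Sets m) = 0 := by
  rw [toSets_dot, ofSets_one]; simp [pol]

theorem const_of_ofSets_eq_zero (r : Sets m) (he : r ⬝ᵥ (1 : Sets m) = 0) (h0 : ofSets m r = 0) :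
    ∀ l, r l = r 0 := by
  have hE : ∀ i : Fin m, r ⟨2 * (i : ℕ), by omega⟩ = r ⟨2 * (i : ℕ) + 1, by omega⟩ := fun i => by
    rw [← CharTwo.add_eq_zero, ← eSet_dot i r]
    exact congrFun h0 (.inr i)
  have hF : ∀ i : Fin m, r ⟨2 * (i : ℕ) + 1, by omega⟩ = r ⟨2 * (i : ℕ) + 2, by omega⟩ := fun i => by
    rw [← CharTwo.add_eq_zero]
    have h1 : tailSet m (2 * (i : ℕ) + 1) ⬝ᵥ r = 0 := congrFun h0 (.inl i)
    have h2 : tailSet m (2 * (i : ℕ) + 1 + 2) ⬝ᵥ r = 0 := by
      by_cases hi : (i : ℕ) + 1 < m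
      · have := congrFun h0 (.inl (⟨(i : ℕ) + 1, hi⟩ : Fin m))
        exact this
      · rw [show 2 * (i : ℕ) + 1 + 2 = 2 * m + 1 by omega, tailSet_top, zero_dotProduct]
    rw [tailSet_step _ (by omega), add_dotProduct, add_dotProduct, h2, add_zero, single_dotProduct, single_dotProduct] at h1
    simpa using h1
  have hall : ∀ j (hj : j < 2 * m + 1), r ⟨j, by omega⟩ = r 0 := by
    intro j
    induction j with
    | zero => intro _; rfl
    | succ j ih =>
      intro hj
      rw [← ih (by omega)]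
      rcases Nat.even_or_odd' j with ⟨i, rfl | rfl⟩
      · exact (hE ⟨i, by omega⟩).symm
      · exact (hF ⟨i, by omega⟩).symm
  intro l
  by_cases hl : (l : ℕ) < 2 * m + 1
  · exact hall l hl
  · have hlast : l = Fin.last (2 * m + 1) := Fin.ext (show (l : ℕ) = 2 * m + 1 by omega)
    subst hlast
    rw [dotProduct, Fin.sum_univ_castSucc] at he
    rw [Finset.sum_congr rfl (fun (x : Fin (2 * m + 1)) _ => show r x.castSucc * (1 : Sets m) x.castSucc = r 0 by
      rw [Pi.one_apply, mul_one]; exact hall x x.2)] at he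
    rw [Finset.sum_const, Finset.card_univ, Fintype.card_fin, Pi.one_apply, mul_one, nsmul_eq_mul, Nat.cast_add,
      Nat.cast_mul, show ((2 : ℕ) : ZMod 2) = 0 from rfl, zero_mul, zero_add, Nat.cast_one, one_mul] at he
    exact (CharTwo.add_eq_zero.mp he).symm

theorem exists_toSets_ofSets (s : Sets m) (he : s ⬝ᵥ (1 : Sets m) = 0) :
    ∃ c : ZMod 2, toSets m (ofSets m s) = s + c • (1 : Sets m) := by
  set r := toSets m (ofSets m s) - s
  have h0 : ofSets m r = 0 := by simp [r, ofSets_toSets]
  have hre : r ⬝ᵥ (1 : Sets m) = 0 := by rw [sub_dotProduct, toSets_even, he, sub_zero]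
  refine ⟨r 0, ?_⟩
  have : r = r 0 • (1 : Sets m) := funext fun l => by simp [const_of_ofSets_eq_zero r hre h0 l]
  rw [← this]; simp [r]

/-- Size of a subset. -/
def supSize (s : Sets m) : ℕ := ∑ l, (s l).val

/-- Half size modulo two. -/
def half (s : Sets m) : ZMod 2 := ((supSize s / 2 : ℕ) : ZMod 2)

theorem supSize_cast (s : Sets m) : (supSize s : ZMod 2) = s ⬝ᵥ (1 : Sets m) := by
  simp [supSize, dotProduct, ZMod.natCast_val]

theorem supSize_even {s : Sets m} (he : s ⬝ᵥ (1 : Sets m) = 0) : 2 ∣ supSize s := by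
  rw [← ZMod.natCast_eq_zero_iff, supSize_cast, he]

theorem half_add {s t : Sets m} (hs : s ⬝ᵥ (1 : Sets m) = 0) (ht : t ⬝ᵥ (1 : Sets m) = 0) :
    half (s + t) = half s + half t + s ⬝ᵥ t := by
  have hval : ∀ x y : ZMod 2, (x + y).val + 2 * (x * y).val = x.val + y.val := by decide
  have h1 : supSize (s + t) + 2 * (∑ l, (s l * t l).val) = supSize s + supSize t := by
    simp only [supSize, Pi.add_apply, Finset.mul_sum, ← Finset.sum_add_distrib]
    exact Finset.sum_congr rfl fun l _ => hval _ _
  have hd : ((∑ l, (s l * t l).val : ℕ) : ZMod 2) = s ⬝ᵥ t := by simp [dotProduct, ZMod.natCast_val]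
  obtain ⟨a, ha⟩ := supSize_even hs
  obtain ⟨b, hb⟩ := supSize_even ht
  have hab : supSize (s + t) / 2 + (∑ l, (s l * t l).val) = a + b := by omega
  have h2 := congrArg (fun z : ℕ => (z : ZMod 2)) hab
  simp only [Nat.cast_add, hd] at h2
  simp only [half, ha, hb, Nat.mul_div_cancel_left _ (show 0 < 2 by omega)]
  have h3 : s ⬝ᵥ t + s ⬝ᵥ t = 0 := CharTwo.add_self_eq_zero _
  linear_combination h2 - h3

theorem half_smul_one (hm : Odd m) (c : ZMod 2) : half (c • (1 : Sets m)) = 0 := by
  rcases zmod_two_cases c with rfl | rfl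
  · simp [half, supSize]
  · have h1 : supSize (1 : Sets m) = 2 * m + 2 := by simp [supSize, ZMod.val_one]
    rw [one_smul, half, h1, show (2 * m + 2) / 2 = m + 1 by omega, ZMod.natCast_eq_zero_iff]
    obtain ⟨k, rfl⟩ := hm
    omega

theorem half_add_smul_one (hm : Odd m) {s : Sets m} (hs : s ⬝ᵥ (1 : Sets m) = 0) (c : ZMod 2) :
    half (s + c • (1 : Sets m)) = half s := by
  have h1 : (c • (1 : Sets m)) ⬝ᵥ (1 : Sets m) = 0 := by
    have : (1 : Sets m) ⬝ᵥ (1 : Sets m) = 0 := by
      simp [dotProduct, show ((2 : ℕ) : ZMod 2) = 0 from rfl, show (2 : ZMod 2) = 0 from rfl]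
    rw [smul_dotProduct, this, smul_zero]
  rw [half_add hs h1, half_smul_one hm, add_zero, dotProduct_smul, hs, smul_zero, add_zero]

/-- The form on `Vec m` coming from half sizes. -/
def halfForm (m : ℕ) (v : Vec m) : ZMod 2 := half (toSets m v)

theorem isQF_halfForm : IsQF m (halfForm m) := fun u v => by
  rw [pol_eq, halfForm, halfForm, halfForm, map_add, half_add (toSets_even u) (toSets_even v), toSets_dot_toSets]

/-- The action of permutations on `Sets m`. -/
def permSets (σ : Equiv.Perm (Fin (2 * m + 2))) : Sets m →ₗ[ZMod 2] Sets m := LinearMap.funLeft (ZMod 2) (ZMod 2) σ.symm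

theorem permSets_apply (σ : Equiv.Perm (Fin (2 * m + 2))) (s : Sets m) (l) : permSets σ s l = s (σ.symm l) := rfl

theorem permSets_even (σ : Equiv.Perm (Fin (2 * m + 2))) {s : Sets m} (hs : s ⬝ᵥ (1 : Sets m) = 0) :
    permSets σ s ⬝ᵥ (1 : Sets m) = 0 := by
  refine Eq.trans ?_ hs
  simp only [dotProduct, Pi.one_apply, mul_one, permSets_apply]
  exact σ.symm.sum_comp s

theorem permSets_one (σ : Equiv.Perm (Fin (2 * m + 2))) : permSets σ (1 : Sets m) = 1 := rfl

/-- The representation of `S_{2m+2}` on `Vec m`. -/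
def permRep (m : ℕ) : Equiv.Perm (Fin (2 * m + 2)) →* Module.End (ZMod 2) (Vec m) where
  toFun σ := (ofSets m).comp ((permSets σ).comp (toSets m))
  map_one' := LinearMap.ext fun v => ofSets_toSets v
  map_mul' σ τ := LinearMap.ext fun v => by
    show ofSets m (permSets (σ * τ) (toSets m v)) = ofSets m (permSets σ (toSets m (ofSets m (permSets τ (toSets m v)))))
    obtain ⟨c, hc⟩ := exists_toSets_ofSets _ (permSets_even τ (toSets_even v))
    rw [hc, map_add, map_add, map_smul, map_smul, permSets_one, ofSets_one, smul_zero, add_zero]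
    rfl

theorem permRep_apply (σ : Equiv.Perm (Fin (2 * m + 2))) (v : Vec m) :
    permRep m σ v = ofSets m (permSets σ (toSets m v)) := rfl

theorem halfForm_permRep (hm : Odd m) (σ : Equiv.Perm (Fin (2 * m + 2))) (v : Vec m) :
    halfForm m (permRep m σ v) = halfForm m v := by
  rw [halfForm, permRep_apply]
  obtain ⟨c, hc⟩ := exists_toSets_ofSets _ (permSets_even σ (toSets_even v))
  rw [hc, half_add_smul_one hm (permSets_even σ (toSets_even v))]
  simp only [half, supSize, permSets_apply, halfForm]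
  rw [σ.symm.sum_comp (fun l => (toSets m v l).val)]

theorem permRep_injective (hm : 2 ≤ m) : Function.Injective (permRep m) := by
  classical
  refine (injective_iff_map_eq_one _).mpr fun σ hσ => ?_
  have hconst : ∀ s : Sets m, s ⬝ᵥ (1 : Sets m) = 0 → ∀ l, permSets σ s l + s l = permSets σ s 0 + s 0 := by
    intro s hs
    have h0 : ofSets m (permSets σ s + s) = 0 := by
      obtain ⟨c, hc⟩ := exists_toSets_ofSets s hs
      have h1 : permRep m σ (ofSets m s) = ofSets m (permSets σ s) := by
        rw [permRep_apply, hc, map_add, map_add, map_smul, map_smul, permSets_one, ofSets_one, smul_zero, add_zero]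
      rw [hσ] at h1
      rw [map_add, ← h1]
      exact funext fun l => CharTwo.add_self_eq_zero _
    exact const_of_ofSets_eq_zero (permSets σ s + s) (by rw [add_dotProduct, permSets_even σ hs, hs, add_zero]) h0
  have hpair : ∀ a b, a ≠ b → σ a = a ∨ σ a = b := by
    intro a b hab
    let s : Sets m := Pi.single a 1 + Pi.single b 1
    have hs : s ⬝ᵥ (1 : Sets m) = 0 := by simp [s, add_dotProduct]; decide
    obtain ⟨x, hx⟩ : ∃ x, x ∉ ({a, b, σ a, σ b} : Finset (Fin (2 * m + 2))) := by
      by_contra h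
      push Not at h
      have h1 : ({a, b, σ a, σ b} : Finset (Fin (2 * m + 2))) = Finset.univ := Finset.eq_univ_iff_forall.mpr h
      have h2 : ({a, b, σ a, σ b} : Finset (Fin (2 * m + 2))).card ≤ 4 :=
        (Finset.card_insert_le _ _).trans (by
          have := Finset.card_insert_le b ({σ a, σ b} : Finset (Fin (2 * m + 2)))
          have := Finset.card_le_two (a := σ a) (b := σ b)
          omega)
      rw [h1, Finset.card_univ, Fintype.card_fin] at h2
      omega
    simp only [Finset.mem_insert, Finset.mem_singleton, not_or] at hx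
    have hxa : σ.symm x ≠ a := fun e => hx.2.2.1 (by rw [← e, Equiv.apply_symm_apply])
    have hxb : σ.symm x ≠ b := fun e => hx.2.2.2 (by rw [← e, Equiv.apply_symm_apply])
    have h1 : permSets σ s x + s x = 0 := by
      simp [permSets_apply, s, hxa, hxb, hx.1, hx.2.1]
    have h2 := hconst s hs (σ a)
    rw [← hconst s hs x, h1] at h2
    by_contra hne
    push Not at hne
    rw [permSets_apply, Equiv.symm_apply_apply] at h2
    simp [s, hne.1, hne.2, hab] at h2
  ext a
  obtain ⟨b, hb⟩ : ∃ b, b ≠ a := exists_ne a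
  obtain ⟨c, hca, hcb⟩ : ∃ c, c ≠ a ∧ c ≠ b := by
    have := Finset.card_le_two (a := a) (b := b)
    obtain ⟨c, hc⟩ : ∃ c, c ∉ ({a, b} : Finset (Fin (2 * m + 2))) := by
      by_contra h
      push Not at h
      rw [Finset.eq_univ_iff_forall.mpr h, Finset.card_univ, Fintype.card_fin] at this
      omega
    simp only [Finset.mem_insert, Finset.mem_singleton, not_or] at hc
    exact ⟨c, hc⟩
  have : σ a = a := by
    rcases hpair a b (Ne.symm hb) with h | h
    · exact h
    · rcases hpair a c (Ne.symm hca) with h' | h'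
      · exact h'
      · exact absurd (h'.symm.trans h) hcb
  simp [this]

theorem halfForm_vector (k : ℕ) :
    ∃ w : Vec (2 * k + 1), halfForm (2 * k + 1) = qw (2 * k + 1) w ∧ quadFormPlus (2 * k + 1) (ZMod 2) w = ((k + 1 : ℕ) : ZMod 2) := by
  set M := 2 * k + 1
  obtain ⟨w, hw⟩ := exists_eq_qw M (isQF_halfForm (m := M))
  refine ⟨w, hw, ?_⟩
  have hl : ∀ i : Fin M, w (.inr i) = 1 := by
    intro i
    have h := congrFun hw (Pi.single (.inl i) 1)
    have h1 : toSets M (Pi.single (.inl i) 1) = eSet i := by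
      simp [toSets_apply, Pi.single_apply, Finset.sum_add_distrib, ite_smul]
    have h2 : supSize (eSet i) = 2 := by
      have hv : ∀ (a b : Fin (2 * M + 2)), a ≠ b → supSize (Pi.single a 1 + Pi.single b 1 : Sets M) = 2 := by
        intro a b hab
        rw [supSize, Finset.sum_eq_add a b hab]
        · simp [hab, Ne.symm hab, ZMod.val_one]
        · intro c _ hc; simp [hc.1, hc.2]
        · simp
        · simp
      exact hv _ _ (by simp [Fin.ext_iff])
    rw [halfForm, h1, half, h2] at h
    simpa [qw, quadFormPlus, pol, Pi.single_apply] using h.symm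
  have hr : ∀ i : Fin M, w (.inl i) = ((M - (i : ℕ) : ℕ) : ZMod 2) := by
    intro i
    have h := congrFun hw (Pi.single (.inr i) 1)
    have h1 : toSets M (Pi.single (.inr i) 1) = fSet i := by
      simp [toSets_apply, Pi.single_apply, Finset.sum_add_distrib, ite_smul]
    have h2 : ∀ d a, a + 2 * d = 2 * M + 1 → supSize (tailSet M a) = 2 * d := by
      intro d
      induction d with
      | zero => intro a ha; rw [show a = 2 * M + 1 by omega, tailSet_top]; simp [supSize]
      | succ d ih =>
        intro a ha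
        have hd := ih (a + 2) (by omega)
        rw [mul_add, ← hd, tailSet_step a (by omega), supSize, supSize,
          ← Finset.sum_add_sum_compl {(⟨a, by omega⟩ : Fin (2 * M + 2)), ⟨a + 1, by omega⟩}]
        rw [← Finset.sum_add_sum_compl {(⟨a, by omega⟩ : Fin (2 * M + 2)), ⟨a + 1, by omega⟩} (fun l => (tailSet M (a + 2) l).val),
          Finset.sum_pair (by simp [Fin.ext_iff]), Finset.sum_pair (by simp [Fin.ext_iff])]
        have e1 : ∀ l ∈ ({(⟨a, by omega⟩ : Fin (2 * M + 2)), ⟨a + 1, by omega⟩} : Finset _)ᶜ,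
            ((Pi.single (⟨a, by omega⟩ : Fin (2 * M + 2)) 1 + Pi.single (⟨a + 1, by omega⟩ : Fin (2 * M + 2)) 1 + tailSet M (a + 2) : Sets M) l).val = (tailSet M (a + 2) l).val := by
          intro l hl'
          simp only [Finset.mem_compl, Finset.mem_insert, Finset.mem_singleton, not_or] at hl'
          simp [hl'.1, hl'.2]
        rw [Finset.sum_congr rfl e1]
        simp [tailSet, ZMod.val_one]
        omega
    rw [halfForm, h1, half, fSet, h2 (M - (i : ℕ)) _ (by have := i.2; omega), Nat.mul_div_cancel_left _ (show 0 < 2 by omega)] at h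
    simpa [qw, quadFormPlus, pol, Pi.single_apply] using h.symm
  simp only [quadFormPlus, hl, hr, mul_one]
  rw [← Nat.cast_sum, Fin.sum_univ_eq_sum_range (fun i => M - i) M]
  have hsum : ∀ j, 2 * (∑ i ∈ Finset.range j, (j - i)) = j * (j + 1) := by
    intro j
    induction j with
    | zero => simp
    | succ j ih =>
      rw [Finset.sum_range_succ', show ∀ s, 2 * (s + (j + 1 - 0)) = 2 * s + 2 * (j + 1) from fun s => by omega]
      simp only [Nat.add_sub_add_right, ih]
      ring
  rw [ZMod.natCast_eq_natCast_iff']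
  have h3 : ∑ i ∈ Finset.range M, (M - i) = (k + 1) * (2 * k + 1) := by
    have := hsum M
    simp only [M] at this ⊢
    nlinarith
  rw [h3, Nat.mul_mod, show (2 * k + 1) % 2 = 1 by omega, mul_one, Nat.mod_mod]

/-- A representation preserving `Q` gives a homomorphism to `isometryGroup`. -/
theorem exists_hom_isometryGroup {G : Type*} [Group G] {F : Type*} [Field F] {ι : Type} [Fintype ι] [DecidableEq ι]
    (Q : (ι → F) → F) (ρ : G →* Module.End F (ι → F)) (hρ : ∀ g v, Q (ρ g v) = Q v) (hinj : Function.Injective ρ) :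
    ∃ φ : G →* ↥(isometryGroup F Q), Function.Injective φ := by
  let M : G →* Matrix ι ι F :=
    { toFun := fun g => LinearMap.toMatrix' (ρ g)
      map_one' := by rw [map_one]; exact LinearMap.toMatrix'_id
      map_mul' := fun g h => by rw [map_mul]; exact LinearMap.toMatrix'_comp _ _ }
  refine ⟨M.toHomUnits.codRestrict _ (fun g u _ => ?_), fun g h hgh => ?_⟩
  · show Q ((M.toHomUnits g : Matrix ι ι F).mulVec u) = Q u
    rw [MonoidHom.coe_toHomUnits]
    show Q ((LinearMap.toMatrix' (ρ g)).mulVec u) = Q u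
    rw [LinearMap.toMatrix'_mulVec, hρ]
  · refine hinj (LinearMap.toMatrix'.injective ?_)
    have := congrArg (fun z : ↥(isometryGroup F Q) => ((z : GL ι F) : Matrix ι ι F)) hgh
    exact this

/-- `S_{2m+2}` embeds into `O^±_{2m}(2)` for `m = 2k+1`, with sign given by the parity of `k`. -/
theorem exists_perm_hom (k : ℕ) (hk : 1 ≤ k) :
    (Odd k → ∃ φ : Equiv.Perm (Fin (2 * (2 * k + 1) + 2)) →* ↥(isometryGroup (ZMod 2) (quadFormPlus (2 * k + 1) (ZMod 2))), Function.Injective φ) ∧
    (Even k → ∃ φ : Equiv.Perm (Fin (2 * (2 * k + 1) + 2)) →* ↥(isometryGroup (ZMod 2) (quadFormMinus (2 * k) (ZMod 2) 1 1)), Function.Injective φ) := by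
  obtain ⟨w, hw, hQ⟩ := halfForm_vector k
  have hm : Odd (2 * k + 1) := odd_two_mul_add_one k
  have key : ∀ {ι : Type} [Fintype ι] [DecidableEq ι] (Q : (ι → ZMod 2) → ZMod 2) (g : Vec (2 * k + 1) ≃ₗ[ZMod 2] (ι → ZMod 2)),
      (∀ v, qw (2 * k + 1) w v = Q (g v)) →
      ∃ φ : Equiv.Perm (Fin (2 * (2 * k + 1) + 2)) →* ↥(isometryGroup (ZMod 2) Q), Function.Injective φ := by
    intro ι _ _ Q g hg
    let ρ : Equiv.Perm (Fin (2 * (2 * k + 1) + 2)) →* Module.End (ZMod 2) (ι → ZMod 2) :=
      { toFun := fun σ => g.toLinearMap.comp ((permRep (2 * k + 1) σ).comp g.symm.toLinearMap)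
        map_one' := LinearMap.ext fun v => by simp
        map_mul' := fun σ τ => LinearMap.ext fun v => by simp }
    refine exists_hom_isometryGroup Q ρ (fun σ v => ?_) (fun σ τ h => ?_)
    · show Q (g (permRep (2 * k + 1) σ (g.symm v))) = Q v
      rw [← hg, ← hw, halfForm_permRep hm, hw, hg, LinearEquiv.apply_symm_apply]
    · refine permRep_injective (by omega) (LinearMap.ext fun v => ?_)
      have := LinearMap.congr_fun h (g v)
      simpa [ρ] using this
  constructor
  · intro ho
    obtain ⟨g, hg⟩ := qw_isPlus (2 * k + 1) (w := w) (by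
      rw [hQ, ZMod.natCast_eq_zero_iff]; obtain ⟨j, rfl⟩ := ho; omega)
    exact key _ g hg
  · intro he
    obtain ⟨g, hg⟩ := qw_isMinus (2 * k + 1) (by omega) (w := w) (by
      obtain ⟨j, rfl⟩ := he
      rw [hQ]; push_cast; rw [CharTwo.add_self_eq_zero, zero_add])
    exact key (quadFormMinus (2 * k) (ZMod 2) 1 1) g hg

end CfsgLib.F2Quad
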