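import Cfsg.Agent.Lib.F2Quad.SmallIso
import Cfsg.Agent.Lib.Classical.SmallIso.Core

/-!
`SO₃(3) ≅ S₄`.
-/

set_option autoImplicit false

namespace CfsgLib.F2Quad

open Cfsg Matrix

/-- `(v₀, x, y)` as a zero-sum vector of four coordinates over `𝔽₃`. -/
def fourVec : (Unit ⊕ (Fin 1 ⊕ Fin 1) → ZMod 3) →ₗ[ZMod 3] (Fin 4 → ZMod 3) where
  toFun v := ![v (.inl ()) + v (.inr (.inl 0)) - v (.inr (.inr 0)),
    -v (.inl ()) + v (.inr (.inl 0)) - v (.inr (.inr 0)), v (.inr (.inl 0)), -v (.inr (.inr 0))]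
  map_add' u v := by funext i; fin_cases i <;> simp <;> ring
  map_smul' c v := by funext i; fin_cases i <;> simp <;> ring

/-- The inverse of `fourVec` on zero-sum vectors. -/
def fourCoord : (Fin 4 → ZMod 3) →ₗ[ZMod 3] (Unit ⊕ (Fin 1 ⊕ Fin 1) → ZMod 3) where
  toFun s := Sum.elim (fun _ => s 1 - s 0) (Sum.elim (fun _ => s 2) (fun _ => -s 3))
  map_add' u v := by funext i; rcases i with i | (i | i) <;> simp <;> ring
  map_smul' c v := by funext i; rcases i with i | (i | i) <;> simp <;> ring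

theorem fourVec_coord : ∀ s : Fin 4 → ZMod 3, ∑ i, s i = 0 → fourVec (fourCoord s) = s := by decide

theorem fourCoord_vec : ∀ v, fourCoord (fourVec v) = v := by decide

theorem fourVec_sum : ∀ v, ∑ i, fourVec v i = 0 := by decide

theorem fourVec_form : ∀ v, quadFormOdd 1 (ZMod 3) v = -∑ i, fourVec v i ^ 2 := by decide

theorem exists_four_hom : ∃ φ : Equiv.Perm (Fin 4) →*
    ↥(isometryGroup (ZMod 3) (quadFormOdd 1 (ZMod 3))), Function.Injective φ := by
  have hev : ∀ (σ : Equiv.Perm (Fin 4)) v, ∑ i, fourVec v (σ.symm i) = 0 := fun σ v =>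
    (σ.symm.sum_comp (fourVec v)).trans (fourVec_sum v)
  let ρ : Equiv.Perm (Fin 4) →* Module.End (ZMod 3) (Unit ⊕ (Fin 1 ⊕ Fin 1) → ZMod 3) :=
    { toFun := fun σ => fourCoord.comp ((LinearMap.funLeft (ZMod 3) (ZMod 3) σ.symm).comp fourVec)
      map_one' := LinearMap.ext fun v => fourCoord_vec v
      map_mul' := fun σ τ => LinearMap.ext fun v => by
        show fourCoord (fun i => fourVec v ((σ * τ).symm i)) =
          fourCoord (fun i => fourVec (fourCoord fun j => fourVec v (τ.symm j)) (σ.symm i))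
        rw [fourVec_coord _ (hev τ v)]
        rfl }
  refine exists_hom_isometryGroup (quadFormOdd 1 (ZMod 3)) ρ (fun σ v => ?_)
    ((injective_iff_map_eq_one ρ).mpr fun σ hσ => Equiv.ext fun a => ?_)
  · show quadFormOdd 1 (ZMod 3) (fourCoord fun i => fourVec v (σ.symm i)) = _
    rw [fourVec_form, fourVec_form, fourVec_coord _ (hev σ v)]
    exact congrArg Neg.neg (σ.symm.sum_comp fun i => fourVec v i ^ 2)
  · have hs : ∀ a : Fin 4, ∑ i, ((Pi.single a 1 : Fin 4 → ZMod 3) i - 1) = 0 := by decide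
    have h := congrArg fourVec (LinearMap.congr_fun hσ
      (fourCoord fun i => (Pi.single a 1 : Fin 4 → ZMod 3) i - 1))
    change fourVec (fourCoord fun i => fourVec (fourCoord fun j =>
      (Pi.single a 1 : Fin 4 → ZMod 3) j - 1) (σ.symm i)) = fourVec _ at h
    rw [Module.End.one_apply, fourVec_coord _ (hs a),
      fourVec_coord _ ((σ.symm.sum_comp fun j => (Pi.single a 1 : _ → ZMod 3) j - 1).trans (hs a))] at h
    have := congrFun h (σ a)
    simp only [Equiv.symm_apply_apply, Pi.single_eq_same] at this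
    show σ a = a
    by_contra hne
    simp [Pi.single_eq_of_ne hne] at this

theorem nonempty_so_three_equiv (F : Type*) [Field F] [Fintype F] (hF : Fintype.card F = 3) :
    Nonempty (↥(specialIsometryGroup F (quadFormOdd 1 F)) ≃* Equiv.Perm (Fin 4)) := by
  classical
  obtain ⟨e⟩ : Nonempty (ZMod 3 ≃+* F) := ⟨ZMod.ringEquivOfPrime F Nat.prime_three hF⟩
  have h20 : (2 : F) ≠ 0 := by
    intro h
    have h3 : (2 : ZMod 3) = 0 := e.injective (by rw [map_ofNat, map_zero]; exact h)
    revert h3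
    decide
  obtain ⟨φ, hφ⟩ := exists_four_hom
  obtain ⟨ψ, hψ⟩ := exists_hom_map e (quadFormOdd 1 (ZMod 3)) (quadFormOdd 1 F)
    (fun v => by simp [quadFormOdd])
  set f := ψ.comp φ with hf
  have hfi : Function.Injective f := hψ.comp hφ
  let O := isometryGroup F (quadFormOdd 1 F)
  let D : ↥O →* Fˣ := Matrix.GeneralLinearGroup.det.comp O.subtype
  have hker : D.ker = specialIsometryGroup F (quadFormOdd 1 F) := rfl
  have hd : ∀ d : Fˣ, d ^ 2 = 1 := by
    intro d
    have h := pow_card_eq_one (x := d)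
    rw [Fintype.card_units, hF] at h
    exact h
  -- scalar isometries
  have hneg : (-1 : GL (Unit ⊕ (Fin 1 ⊕ Fin 1)) F) ∈ O := fun u _ => by
    show quadFormOdd 1 F ((((-1 : GL (Unit ⊕ (Fin 1 ⊕ Fin 1)) F)) :
      Matrix _ _ F) *ᵥ u) = quadFormOdd 1 F u
    simp [quadFormOdd, Matrix.neg_mulVec]
  let N : ↥O := ⟨-1, hneg⟩
  have hNc : ∀ g : ↥O, N * g = g * N := fun g => Subtype.ext (by simp [N])
  have hDN : D N = -1 := by
    apply Units.ext
    show ((-1 : GL (Unit ⊕ (Fin 1 ⊕ Fin 1)) F) : Matrix (Unit ⊕ (Fin 1 ⊕ Fin 1)) (Unit ⊕ (Fin 1 ⊕ Fin 1)) F).det = _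
    simp [Matrix.det_neg]
    norm_num
  have hN2 : N * N = 1 := Subtype.ext (by simp [N])
  -- twisting
  have hne1 : (-1 : Fˣ) ≠ 1 := fun h => by
    refine h20 ?_
    have := congrArg Units.val h
    rw [Units.val_neg, Units.val_one] at this
    linear_combination -this
  have hd2 : ∀ d : Fˣ, d = 1 ∨ d = -1 := fun d => by
    have h := congrArg Units.val (hd d)
    rw [Units.val_pow_eq_pow_val, Units.val_one, sq_eq_one_iff] at h
    rcases h with h | h
    · exact Or.inl (Units.ext h)
    · exact Or.inr (Units.ext (by simpa using h))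
  classical
  let T : Equiv.Perm (Fin 4) → ↥O := fun σ => (if D (f σ) = 1 then 1 else N) * f σ
  have hTD : ∀ σ, D (T σ) = 1 := fun σ => by
    rw [map_mul]
    rcases hd2 (D (f σ)) with h | h
    · simp [h]
    · rw [if_neg (fun h1 => hne1 (h.symm.trans h1)), hDN, h]; simp
  have hTm : ∀ σ τ, T (σ * τ) = T σ * T τ := fun σ τ => by
    simp only [T, map_mul]
    rcases hd2 (D (f σ)) with h | h <;> rcases hd2 (D (f τ)) with h' | h' <;>
      simp only [h, h', one_mul, mul_one, neg_mul, neg_neg, hne1, if_true, if_false]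
    · rw [← mul_assoc, hNc, mul_assoc]
    · rw [mul_assoc]
    · rw [mul_assoc N, ← mul_assoc (f σ), ← hNc (f σ), mul_assoc N, ← mul_assoc N N, hN2, one_mul]
  let g : Equiv.Perm (Fin 4) →* ↥(specialIsometryGroup F (quadFormOdd 1 F)) :=
    { toFun := fun σ => ⟨T σ, hTD σ⟩
      map_one' := Subtype.ext (by simp [T])
      map_mul' := fun σ τ => Subtype.ext (hTm σ τ) }
  have hginj : Function.Injective g := (injective_iff_map_eq_one g).mpr fun σ hσ => by
    have hT : T σ = 1 := congrArg Subtype.val hσ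
    refine (show ∀ σ : Equiv.Perm (Fin 4), (∀ τ, σ * τ = τ * σ) → σ = 1 by decide) σ fun τ => ?_
    refine hfi ?_
    rw [map_mul, map_mul]
    have hc : f σ = 1 ∨ f σ = N := by
      by_cases h : D (f σ) = 1
      · left; simpa [T, h] using hT
      · right
        simp only [T, h, if_false] at hT
        calc f σ = N * N * f σ := by rw [hN2, one_mul]
          _ = N := by rw [mul_assoc, hT, mul_one]
    rcases hc with h | h <;> rw [h]
    · simp
    · exact hNc _
  refine nonempty_equiv_of_injective g hginj ?_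
  have hO : Nat.card O = 48 := by
    rw [CfsgLib.Classical.SmallIso.card_isometryGroup_odd h20 1, Nat.card_eq_fintype_card, hF]
    simp
  have hlag : Nat.card ↥(specialIsometryGroup F (quadFormOdd 1 F)) ∣ 48 :=
    hO ▸ Subgroup.card_subgroup_dvd_card _
  have hne : Nat.card ↥(specialIsometryGroup F (quadFormOdd 1 F)) ≠ 48 := fun h => by
    have htop := Subgroup.eq_top_of_card_eq _ (h.trans hO.symm)
    have hmem : N ∈ D.ker := by rw [hker, htop]; exact Subgroup.mem_top _
    exact hne1 (hDN.symm.trans hmem)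
  have hle : 24 ≤ Nat.card ↥(specialIsometryGroup F (quadFormOdd 1 F)) := by
    have h := Nat.card_le_card_of_injective _ hginj
    rwa [Nat.card_eq_fintype_card, Fintype.card_perm, Fintype.card_fin] at h
  rw [show Nat.card (Equiv.Perm (Fin 4)) = 24 by
    rw [Nat.card_eq_fintype_card, Fintype.card_perm, Fintype.card_fin]; rfl]
  obtain ⟨c, hc⟩ := hlag
  rcases c with _ | _ | _ | c
  · omega
  · omega
  · omega
  · nlinarith

end CfsgLib.F2Quad
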