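import Cfsg.Agent.Lib.F2Quad.EvenSets
import Cfsg.Agent.Lib.SympGeom.Basic
import Cfsg.Agent.S0287
import Cfsg.Agent.S0288

/-!
`O⁻₄(2) ≅ S₅`, `O⁺₆(2) ≅ S₈` over any field of two elements, and `S₂ₙ ≤ Sp_{2n-2}(2)`.
-/

set_option autoImplicit false

namespace CfsgLib.F2Quad

open Cfsg Matrix

/-- Transport of an isometry group along a ring isomorphism. -/
theorem exists_hom_map {K L : Type*} [Field K] [Field L] (e : K ≃+* L) {ι : Type} [Fintype ι]
    [DecidableEq ι] (Q : (ι → K) → K) (Q' : (ι → L) → L)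
    (hQ : ∀ v : ι → K, Q' (fun i => e (v i)) = e (Q v)) :
    ∃ φ : ↥(isometryGroup K Q) →* ↥(isometryGroup L Q'), Function.Injective φ := by
  let M : GL ι K →* GL ι L := Matrix.GeneralLinearGroup.map (n := ι) e.toRingHom
  have hM : ∀ g : GL ι K, (M g : Matrix ι ι L) = (g : Matrix ι ι K).map e := fun g => rfl
  refine ⟨(M.comp (isometryGroup K Q).subtype).codRestrict _ (fun g u u' => ?_), fun g h hgh => ?_⟩
  · show Q' ((M (g : GL ι K) : Matrix ι ι L) *ᵥ u) = Q' u
    obtain ⟨v, rfl⟩ : ∃ v : ι → K, (fun i => e (v i)) = u :=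
      ⟨fun i => e.symm (u i), funext fun i => e.apply_symm_apply _⟩
    have hmv : (M (g : GL ι K) : Matrix ι ι L) *ᵥ (fun i => e (v i)) =
        fun i => e (((g : GL ι K) : Matrix ι ι K).mulVec v i) := by
      rw [hM]; funext i
      simp [Matrix.mulVec, dotProduct, map_sum, map_mul]
    rw [hmv, hQ, hQ]
    exact congrArg e (g.2 v v)
  · have h1 : M (g : GL ι K) = M (h : GL ι K) := congrArg Subtype.val hgh
    exact Subtype.ext (Units.ext (Matrix.map_injective e.injective (congrArg Units.val h1)))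

/-- A field with two elements is `ZMod 2`. -/
theorem exists_ringEquiv_two (F : Type*) [Field F] [Fintype F] (hF : Fintype.card F = 2) :
    Nonempty (ZMod 2 ≃+* F) := ⟨ZMod.ringEquivOfPrime F Nat.prime_two hF⟩

theorem quadFormPlus_map {K L : Type*} [Field K] [Field L] (e : K ≃+* L) (m : ℕ)
    (v : Fin m ⊕ Fin m → K) : quadFormPlus m L (fun i => e (v i)) = e (quadFormPlus m K v) := by
  simp [quadFormPlus]

theorem quadFormMinus_map {K L : Type*} [Field K] [Field L] (e : K ≃+* L) (m : ℕ)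
    (v : (Fin m ⊕ Fin m) ⊕ Fin 2 → K) :
    quadFormMinus m L 1 1 (fun i => e (v i)) = e (quadFormMinus m K 1 1 v) := by
  simp [quadFormMinus]

/-- An injective homomorphism onto a group of the same finite order. -/
theorem nonempty_equiv_of_injective {G H : Type*} [Group G] [Group H] [Finite H] (φ : G →* H)
    (hφ : Function.Injective φ) (hcard : Nat.card H = Nat.card G) : Nonempty (H ≃* G) := by
  haveI := Finite.of_injective φ hφ
  exact ⟨(MulEquiv.ofBijective φ ((Nat.bijective_iff_injective_and_card φ).mpr ⟨hφ, hcard.symm⟩)).symm⟩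

theorem nonempty_goPlus_six_equiv (F : Type*) [Field F] [Fintype F] (hF : Fintype.card F = 2) :
    Nonempty (↥(isometryGroup F (quadFormPlus 3 F)) ≃* Equiv.Perm (Fin 8)) := by
  obtain ⟨e⟩ := exists_ringEquiv_two F hF
  obtain ⟨φ, hφ⟩ := (exists_perm_hom 1 le_rfl).1 odd_one
  obtain ⟨ψ, hψ⟩ := exists_hom_map e (quadFormPlus 3 (ZMod 2)) (quadFormPlus 3 F)
    (quadFormPlus_map e 3)
  refine nonempty_equiv_of_injective (ψ.comp φ) (hψ.comp hφ) ?_
  rw [Cfsg.Agent.S0287.result hF 3 (by norm_num), Nat.card_eq_fintype_card, Fintype.card_perm,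
    Fintype.card_fin]
  simp [Finset.prod_range_succ, Nat.factorial]

section Five

/-- `(x, y, z₁, z₂)` as an even subset of five points. -/
def fiveSets : ((Fin 1 ⊕ Fin 1) ⊕ Fin 2 → ZMod 2) →ₗ[ZMod 2] (Fin 5 → ZMod 2) where
  toFun v := ![v (.inl (.inl 0)) + v (.inl (.inr 0)) + v (.inr 0),
    v (.inl (.inl 0)) + v (.inl (.inr 0)) + v (.inr 0) + v (.inr 1),
    v (.inl (.inl 0)) + v (.inl (.inr 0)) + v (.inr 1), v (.inl (.inl 0)), v (.inl (.inr 0))]
  map_add' u v := by funext i; fin_cases i <;> simp <;> ring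
  map_smul' c v := by funext i; fin_cases i <;> simp <;> ring

/-- The inverse of `fiveSets` on even sets. -/
def fiveCoord : (Fin 5 → ZMod 2) →ₗ[ZMod 2] ((Fin 1 ⊕ Fin 1) ⊕ Fin 2 → ZMod 2) where
  toFun s := Sum.elim (Sum.elim (fun _ => s 3) (fun _ => s 4)) ![s 0 + s 3 + s 4, s 2 + s 3 + s 4]
  map_add' u v := by
    funext i
    rcases i with (i | i) | i <;> [skip; skip; fin_cases i] <;> simp <;> ring
  map_smul' c v := by
    funext i
    rcases i with (i | i) | i <;> [skip; skip; fin_cases i] <;> simp <;> ring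

theorem fiveSets_coord : ∀ s : Fin 5 → ZMod 2, ∑ i, s i = 0 → fiveSets (fiveCoord s) = s := by
  decide

theorem fiveCoord_sets : ∀ v, fiveCoord (fiveSets v) = v := by decide

theorem fiveSets_even : ∀ v, ∑ i, fiveSets v i = 0 := by decide

theorem fiveSets_form : ∀ v, quadFormMinus 1 (ZMod 2) 1 1 v =
    (((∑ i, (fiveSets v i).val) / 2 : ℕ) : ZMod 2) := by decide

theorem exists_five_hom : ∃ φ : Equiv.Perm (Fin 5) →*
    ↥(isometryGroup (ZMod 2) (quadFormMinus 1 (ZMod 2) 1 1)), Function.Injective φ := by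
  have hev : ∀ (σ : Equiv.Perm (Fin 5)) v, ∑ i, fiveSets v (σ.symm i) = 0 := fun σ v =>
    (σ.symm.sum_comp (fiveSets v)).trans (fiveSets_even v)
  let ρ : Equiv.Perm (Fin 5) →* Module.End (ZMod 2) ((Fin 1 ⊕ Fin 1) ⊕ Fin 2 → ZMod 2) :=
    { toFun := fun σ => fiveCoord.comp ((LinearMap.funLeft (ZMod 2) (ZMod 2) σ.symm).comp fiveSets)
      map_one' := LinearMap.ext fun v => fiveCoord_sets v
      map_mul' := fun σ τ => LinearMap.ext fun v => by
        show fiveCoord (fun i => fiveSets v ((σ * τ).symm i)) =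
          fiveCoord (fun i => fiveSets (fiveCoord fun j => fiveSets v (τ.symm j)) (σ.symm i))
        rw [fiveSets_coord _ (hev τ v)]
        rfl }
  refine exists_hom_isometryGroup (quadFormMinus 1 (ZMod 2) 1 1) ρ (fun σ v => ?_)
    ((injective_iff_map_eq_one ρ).mpr fun σ hσ => Equiv.ext fun a => ?_)
  · show quadFormMinus 1 (ZMod 2) 1 1 (fiveCoord fun i => fiveSets v (σ.symm i)) = _
    rw [fiveSets_form, fiveSets_form, fiveSets_coord _ (hev σ v)]
    exact congrArg (fun k : ℕ => ((k / 2 : ℕ) : ZMod 2))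
      (σ.symm.sum_comp fun i => (fiveSets v i).val)
  · have hs : ∀ a : Fin 5, ∑ i, ((1 : ZMod 2) + (Pi.single a 1 : Fin 5 → ZMod 2) i) = 0 := by decide
    have h := congrArg fiveSets (LinearMap.congr_fun hσ
      (fiveCoord fun i => (1 : ZMod 2) + (Pi.single a 1 : Fin 5 → ZMod 2) i))
    change fiveSets (fiveCoord fun i => fiveSets (fiveCoord fun j =>
      (1 : ZMod 2) + (Pi.single a 1 : Fin 5 → ZMod 2) j) (σ.symm i)) = fiveSets _ at h
    rw [Module.End.one_apply, fiveSets_coord _ (hs a),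
      fiveSets_coord _ ((σ.symm.sum_comp fun j => (1 : ZMod 2) + (Pi.single a 1 : _ → ZMod 2) j).trans (hs a))] at h
    have := congrFun h (σ a)
    simp only [Equiv.symm_apply_apply, Pi.single_eq_same] at this
    show σ a = a
    by_contra hne
    simp [Pi.single_eq_of_ne hne] at this

theorem nonempty_goMinus_four_equiv (F : Type*) [Field F] [Fintype F] (hF : Fintype.card F = 2) :
    Nonempty (↥(isometryGroup F (quadFormMinus 1 F 1 1)) ≃* Equiv.Perm (Fin 5)) := by
  obtain ⟨e⟩ := exists_ringEquiv_two F hF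
  obtain ⟨φ, hφ⟩ := exists_five_hom
  obtain ⟨ψ, hψ⟩ := exists_hom_map e (quadFormMinus 1 (ZMod 2) 1 1) (quadFormMinus 1 F 1 1)
    (quadFormMinus_map e 1)
  refine nonempty_equiv_of_injective (ψ.comp φ) (hψ.comp hφ) ?_
  have hab : ∀ z₁ z₂ : F, z₁ ^ 2 + 1 * z₁ * z₂ + 1 * z₂ ^ 2 = 0 → z₁ = 0 ∧ z₂ = 0 := by
    have key : ∀ a b : ZMod 2, a ^ 2 + a * b + b ^ 2 = 0 → a = 0 ∧ b = 0 := by decide
    intro z₁ z₂ h
    obtain ⟨a, rfl⟩ := e.surjective z₁
    obtain ⟨b, rfl⟩ := e.surjective z₂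
    obtain ⟨rfl, rfl⟩ := key a b (e.injective (by rw [map_add, map_add, map_mul, map_pow, map_pow, map_zero]; rwa [one_mul, one_mul] at h))
    simp
  rw [show (1 : ℕ) = 2 - 1 from rfl, Cfsg.Agent.S0288.result hF 2 (by norm_num) 1 1 hab,
    Nat.card_eq_fintype_card, Fintype.card_perm, Fintype.card_fin]
  simp [Nat.factorial]

end Five

theorem permRep_pol (m : ℕ) (σ : Equiv.Perm (Fin (2 * m + 2))) (u v : Vec m) :
    pol m (permRep m σ u) (permRep m σ v) = pol m u v := by
  rw [permRep_apply, permRep_apply, ← toSets_dot]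
  obtain ⟨c, hc⟩ := exists_toSets_ofSets _ (permSets_even σ (toSets_even u))
  rw [hc, add_dotProduct, smul_dotProduct, dotProduct_comm (1 : Sets m),
    permSets_even σ (toSets_even v), smul_zero, add_zero, ← toSets_dot_toSets]
  exact σ.symm.sum_comp fun l => toSets m u l * toSets m v l

theorem sympForm_eq_pol (m : ℕ) (u v : Vec m) : sympForm m (ZMod 2) u v = pol m u v := by
  simp [sympForm, pol, Matrix.J, dotProduct, Matrix.mulVec, Matrix.fromBlocks, Fintype.sum_sum_type,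
    Matrix.one_apply, Finset.sum_add_distrib, ite_mul, mul_comm, CharTwo.neg_eq, CharTwo.sub_eq_add]

theorem exists_perm_hom_symplectic (m : ℕ) (hm : 2 ≤ m) :
    ∃ f : Equiv.Perm (Fin (2 * m + 2)) →* Matrix.symplecticGroup (Fin m) (ZMod 2),
      Function.Injective f := by
  let f : Equiv.Perm (Fin (2 * m + 2)) →* Matrix (Fin m ⊕ Fin m) (Fin m ⊕ Fin m) (ZMod 2) :=
    (LinearMap.toMatrixAlgEquiv' (R := ZMod 2) (n := Fin m ⊕ Fin m)).toMulEquiv.toMonoidHom.comp
      (permRep m)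
  have hf : ∀ σ v, f σ *ᵥ v = permRep m σ v := fun σ v => by
    show (LinearMap.toMatrixAlgEquiv' (permRep m σ)) *ᵥ v = _
    rw [← Matrix.toLinAlgEquiv'_apply, Matrix.toLinAlgEquiv'_toMatrixAlgEquiv']
  refine ⟨f.codRestrict _ (fun σ => CfsgLib.Linear.Symp.mem_of_form_mulVec fun u v => ?_),
    fun σ τ h => permRep_injective hm (LinearMap.ext fun v => ?_)⟩
  · rw [hf, hf, sympForm_eq_pol, sympForm_eq_pol, permRep_pol]
  · rw [← hf, ← hf]
    exact congrArg (fun A : Matrix.symplecticGroup (Fin m) (ZMod 2) => A.1 *ᵥ v) h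

end CfsgLib.F2Quad
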